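import Mathlib
import Cfsg.Agent.Lib.SmallGroups.Basic

/-!
# A self-centralising elementary abelian Sylow 3-subgroup of order nine: local facts

Two noncommuting elements of order three with product of order three generate an abelian normal
translation subgroup extended by a rotation, so they are conjugate.
-/

set_option autoImplicit false

namespace Cfsg.Agent.Lib.ThreeSelfCentral

open Subgroup

variable {G : Type*} [Group G]

/-- A triangle of elements of order three. -/
theorem isConj_or_commute [Finite G] {x y : G} (hx : x ^ 3 = 1) (hy : y ^ 3 = 1)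
    (hxy : (x * y) ^ 3 = 1)
    (hC : ∀ a b : G, a ≠ 1 → Commute a x → Commute a b → Commute x b) :
    Commute x y ∨ IsConj x y := by
  classical
  have hx2 : x⁻¹ = x * x := inv_eq_of_mul_eq_one_right (by rw [← hx, pow_three])
  have hy2 : y⁻¹ = y * y := inv_eq_of_mul_eq_one_right (by rw [← hy, pow_three])
  have h3 : x * y * (x * y) * (x * y) = 1 := by rw [← hxy, pow_three]; simp only [mul_assoc]
  have hyxy : y * x * y = x⁻¹ * y⁻¹ * x⁻¹ := by
    refine eq_inv_mul_of_mul_eq ?_ |>.trans (mul_assoc _ _ _).symm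
    refine eq_inv_mul_of_mul_eq ?_
    refine eq_inv_of_mul_eq_one_left ?_
    calc y * (x * (y * x * y)) * x = x⁻¹ * (x * y * (x * y) * (x * y)) * x := by group
      _ = 1 := by rw [h3]; group
  set c := x⁻¹ * y with hc
  set d := y * x⁻¹ with hd
  have hcd : c * d = d * c := by
    calc c * d = x⁻¹ * (y * y) * x⁻¹ := by rw [hc, hd]; group
      _ = x⁻¹ * y⁻¹ * x⁻¹ := by rw [hy2]
      _ = y * x * y := hyxy.symm
      _ = y * (x⁻¹ * x⁻¹) * y := by rw [← mul_inv_rev, ← hx2, inv_inv]
      _ = d * c := by rw [hc, hd]; group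
  have hxc : x * c * x⁻¹ = d := by rw [hc, hd]; group
  have hxd : x * d * x⁻¹ = (d * c)⁻¹ := by
    rw [eq_inv_iff_mul_eq_one]
    calc x * d * x⁻¹ * (d * c) = x * y * (x⁻¹ * x⁻¹) * y * (x⁻¹ * x⁻¹) * y := by
          rw [hc, hd]; group
      _ = x * y * (x * y) * (x * y) := by
          rw [show x⁻¹ * x⁻¹ = x by rw [← mul_inv_rev, ← hx2, inv_inv]]; simp only [mul_assoc]
      _ = 1 := h3
  set A : Subgroup G := closure {c, d} with hA
  have hcA : c ∈ A := subset_closure (Set.mem_insert _ _)
  have hdA : d ∈ A := subset_closure (Set.mem_insert_of_mem _ rfl)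
  have hAc : ∀ a ∈ A, ∀ b ∈ A, a * b = b * a := by
    have h1 : A ≤ centralizer (A : Set G) := by
      rw [hA, centralizer_closure, closure_le]
      intro a ha
      rw [SetLike.mem_coe, mem_centralizer_iff]
      intro b hb
      rcases ha with rfl | rfl <;> rcases hb with rfl | rfl <;>
        first | rfl | exact hcd | exact hcd.symm
    exact fun a ha b hb => (mem_centralizer_iff.1 (h1 hb) a ha)
  have hAx : ∀ a ∈ A, x * a * x⁻¹ ∈ A := by
    intro a ha
    have hle : A ≤ A.comap (MulAut.conj x).toMonoidHom := by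
      conv_lhs => rw [hA]
      rw [closure_le]
      intro b hb
      rw [SetLike.mem_coe, mem_comap]
      rcases hb with rfl | rfl
      · simp only [MulEquiv.toMonoidHom_eq_coe, MonoidHom.coe_coe, MulAut.conj_apply, hxc]
        exact hdA
      · simp only [MulEquiv.toMonoidHom_eq_coe, MonoidHom.coe_coe, MulAut.conj_apply, hxd]
        exact inv_mem (mul_mem hdA hcA)
    simpa using hle ha
  by_cases hfix : ∃ a ∈ A, a ≠ 1 ∧ Commute a x
  · obtain ⟨a, ha, ha1, hax⟩ := hfix
    left
    have : Commute x c := hC a c ha1 hax (hAc a ha c hcA)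
    rw [show y = x * c by rw [hc]; group]
    exact (Commute.refl x).mul_right this
  right
  let f : A → A := fun a => ⟨a * (x * (a : G)⁻¹ * x⁻¹), mul_mem a.2 (hAx _ (inv_mem a.2))⟩
  have hf : Function.Injective f := by
    intro a b hab
    have h : (a : G) * x * (a : G)⁻¹ = b * x * (b : G)⁻¹ := by
      have h0 : (a : G) * (x * (a : G)⁻¹ * x⁻¹) = b * (x * (b : G)⁻¹ * x⁻¹) :=
        congrArg Subtype.val hab
      calc (a : G) * x * (a : G)⁻¹ = (a : G) * (x * (a : G)⁻¹ * x⁻¹) * x := by group
        _ = (b : G) * (x * (b : G)⁻¹ * x⁻¹) * x := by rw [h0]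
        _ = _ := by group
    by_contra hne
    refine hfix ⟨(b : G)⁻¹ * a, mul_mem (inv_mem b.2) a.2, fun h1 => hne ?_, ?_⟩
    · exact Subtype.ext (inv_mul_eq_one.1 h1).symm
    · calc (b : G)⁻¹ * a * x = (b : G)⁻¹ * (a * x * (a : G)⁻¹) * a := by group
        _ = x * ((b : G)⁻¹ * a) := by rw [h]; group
  obtain ⟨a, ha⟩ := (Finite.injective_iff_surjective.1 hf) ⟨d, hdA⟩
  have ha' : (a : G) * (x * (a : G)⁻¹ * x⁻¹) = d := congrArg Subtype.val ha
  refine isConj_iff.2 ⟨a, ?_⟩
  calc (a : G) * x * (a : G)⁻¹ = (a : G) * (x * (a : G)⁻¹ * x⁻¹) * x := by group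
    _ = y := by rw [ha', hd]; group

/-- An elementary abelian Sylow 3-subgroup of order nine equal to each of its centralisers. -/
structure Data (P : Sylow 3 G) : Prop where
  exp : ∀ a ∈ (P : Subgroup G), a ^ 3 = 1
  comm : ∀ a ∈ (P : Subgroup G), ∀ b ∈ (P : Subgroup G), a * b = b * a
  card : Nat.card (P : Subgroup G) = 9
  cent : ∀ a ∈ (P : Subgroup G), a ≠ 1 → centralizer ({a} : Set G) = (P : Subgroup G)

variable {P : Sylow 3 G}

theorem Data.mem_of_commute (h : Data P) {a b : G} (ha : a ∈ (P : Subgroup G)) (ha1 : a ≠ 1)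
    (hab : Commute a b) : b ∈ (P : Subgroup G) := by
  rw [← h.cent a ha ha1, mem_centralizer_singleton_iff]
  exact hab.symm.eq

/-- Every element conjugate to one of P has a transitive commuting relation. -/
theorem Data.commute_trans (h : Data P) {x : G} {u : G} (hu : u ∈ (P : Subgroup G)) (hu1 : u ≠ 1)
    (hux : IsConj u x) {a b : G} (ha : a ≠ 1) (hax : Commute a x) (hab : Commute a b) :
    Commute x b := by
  obtain ⟨g, rfl⟩ := isConj_iff.1 hux
  have key : ∀ {s t : G}, Commute s t → Commute (g⁻¹ * s * g) (g⁻¹ * t * g) := fun {s t} hst => by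
    have := (Commute.map hst (MulAut.conj g⁻¹).toMonoidHom)
    simpa using this
  have h1 : g⁻¹ * (g * u * g⁻¹) * g = u := by group
  have ha' : g⁻¹ * a * g ∈ (P : Subgroup G) :=
    h.mem_of_commute hu hu1 (by have := (key hax).symm; rwa [h1] at this)
  have hb' : g⁻¹ * b * g ∈ (P : Subgroup G) :=
    h.mem_of_commute ha' (fun e => ha (by
      calc a = g * (g⁻¹ * a * g) * g⁻¹ := by group
        _ = 1 := by rw [e]; group)) (key hab)
  have h2 : Commute (g * u * g⁻¹) (g * (g⁻¹ * b * g) * g⁻¹) := by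
    have := Commute.map (show Commute u (g⁻¹ * b * g) from h.comm u hu _ hb')
      (MulAut.conj g).toMonoidHom
    simpa using this
  rwa [show g * (g⁻¹ * b * g) * g⁻¹ = b by group] at h2

theorem Data.isConj_inv_iff_orderOf (h : Data P) {u : G} (hu : u ∈ (P : Subgroup G)) (hu1 : u ≠ 1) :
    orderOf u = 3 :=
  haveI : Fact (Nat.Prime 3) := ⟨Nat.prime_three⟩
  orderOf_eq_prime (h.exp u hu) hu1

/-- Fusion in P is controlled by its normaliser. -/
theorem Data.mem_normalizer_of_conj (h : Data P) [Finite G] {u : G} (hu : u ∈ (P : Subgroup G))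
    (hu1 : u ≠ 1) {g : G} (hg : g * u * g⁻¹ ∈ (P : Subgroup G)) :
    g ∈ normalizer ((P : Subgroup G) : Set G) := by
  have hle : ∀ s ∈ (P : Subgroup G), g * s * g⁻¹ ∈ (P : Subgroup G) := fun s hs => by
    refine h.mem_of_commute hg (fun e => hu1 ?_) ?_
    · calc u = g⁻¹ * (g * u * g⁻¹) * g := by group
        _ = 1 := by rw [e]; group
    · have := Commute.map (show Commute u s from h.comm u hu s hs) (MulAut.conj g).toMonoidHom
      simpa using this
  rw [mem_normalizer_iff]
  intro s
  refine ⟨hle s, fun hs => ?_⟩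
  have hmap : (P : Subgroup G).map (MulAut.conj g).toMonoidHom = (P : Subgroup G) :=
    eq_of_le_of_card_ge (by rintro _ ⟨t, ht, rfl⟩; simpa using hle t ht)
      (by rw [card_map_of_injective (MulAut.conj g).injective])
  rw [← hmap] at hs
  obtain ⟨t, ht, hts⟩ := hs
  have : t = s := (MulAut.conj g).injective (by simpa using hts)
  exact this ▸ ht

/-- The Sylow subgroup acts freely on the other Sylow subgroups. -/
theorem Data.nine_dvd (h : Data P) [Finite G] : 9 ∣ Nat.card (Sylow 3 G) - 1 := by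
  classical
  haveI : Fact (Nat.Prime 3) := ⟨Nat.prime_three⟩
  have hfree : ∀ Q : Sylow 3 G, Q ≠ P → MulAction.stabilizer (P : Subgroup G) Q = ⊥ := fun Q hQ => by
    rw [eq_bot_iff]
    rintro ⟨s, hs⟩ hsQ
    rw [Subgroup.mem_bot, Subtype.ext_iff]
    by_contra hs1
    have hsN : s ∈ normalizer ((Q : Subgroup G) : Set G) :=
      Sylow.smul_eq_iff_mem_normalizer.1 hsQ
    obtain ⟨g, rfl⟩ := MulAction.exists_smul_eq G P Q
    have hsg : s ∈ ((g • P : Sylow 3 G) : Subgroup G) := by
      have hp : IsPGroup 3 (zpowers s) := (P.isPGroup').to_le (zpowers_le.2 hs)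
      have h1 := IsPGroup.inf_normalizer_sylow hp (g • P)
      have h2 : s ∈ zpowers s ⊓ normalizer (((g • P : Sylow 3 G) : Subgroup G) : Set G) :=
        Subgroup.mem_inf.2 ⟨mem_zpowers s, hsN⟩
      exact (Subgroup.mem_inf.1 (h1.le h2)).2
    refine hQ ?_
    have hs' : g⁻¹ * s * g ∈ (P : Subgroup G) := by
      rw [Sylow.coe_subgroup_smul, Subgroup.mem_pointwise_smul_iff_inv_smul_mem] at hsg
      simpa using hsg
    exact Sylow.smul_eq_iff_mem_normalizer.2 (h.mem_normalizer_of_conj hs'
      (fun e => hs1 (by calc s = g * (g⁻¹ * s * g) * g⁻¹ := by group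
                          _ = 1 := by rw [e]; group))
      (by rwa [show g * (g⁻¹ * s * g) * g⁻¹ = s by group]))
  haveI := Fintype.ofFinite (Sylow 3 G)
  haveI := Fintype.ofFinite (MulAction.orbitRel.Quotient (P : Subgroup G) (Sylow 3 G))
  have hsum : Nat.card (Sylow 3 G) = ∑ o : MulAction.orbitRel.Quotient (P : Subgroup G) (Sylow 3 G),
      Nat.card (MulAction.orbit (P : Subgroup G) o.out) := by
    rw [← Nat.card_sigma]
    exact Nat.card_congr (MulAction.selfEquivSigmaOrbits (P : Subgroup G) (Sylow 3 G))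
  have hfix : MulAction.orbit (P : Subgroup G) P = {P} := by
    ext Q
    rw [Set.mem_singleton_iff]
    constructor
    · rintro ⟨s, rfl⟩
      exact Sylow.smul_eq_iff_mem_normalizer.2 (le_normalizer s.2)
    · rintro rfl; exact MulAction.mem_orbit_self _
  set o0 : MulAction.orbitRel.Quotient (P : Subgroup G) (Sylow 3 G) := Quotient.mk'' P with ho0
  have ho0c : Nat.card (MulAction.orbit (P : Subgroup G) o0.out) = 1 := by
    have : MulAction.orbit (P : Subgroup G) o0.out = MulAction.orbit (P : Subgroup G) P :=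
      MulAction.orbit_eq_iff.2 (Quotient.mk_out (s := MulAction.orbitRel (P : Subgroup G) (Sylow 3 G)) P)
    rw [this, hfix, Nat.card_coe_set_eq, Set.ncard_singleton]
  rw [hsum, ← Finset.add_sum_erase _ _ (Finset.mem_univ o0), ho0c, Nat.add_sub_cancel_left]
  refine Finset.dvd_sum fun o ho => ?_
  have hne : o.out ≠ P := fun e => (Finset.mem_erase.1 ho).1
    ((Quotient.out_eq' o).symm.trans (congrArg Quotient.mk'' e))
  rw [Nat.card_congr (MulAction.orbitEquivQuotientStabilizer (P : Subgroup G) o.out),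
    ← Subgroup.index_eq_card, hfree _ hne, index_bot, h.card]

end Cfsg.Agent.Lib.ThreeSelfCentral
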