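import Mathlib
import Cfsg.Agent.Lib.ThreeSelfCentral.Local
import Cfsg.Agent.Lib.CharCount.Basic
import Cfsg.Agent.Lib.Chars.Completeness
import Cfsg.Agent.Lib.BSW.Order

/-!
# A self-centralising Sylow 3-subgroup of order nine: classes, counts and values
-/

set_option autoImplicit false

namespace Cfsg.Agent.Lib.ThreeSelfCentral

open Subgroup Cfsg
open Cfsg.Agent.Lib
open scoped ComplexConjugate

variable {G : Type*} [Group G] [Fintype G] {P : Sylow 3 G}

/-- The nonidentity elements of P conjugate to b. -/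
noncomputable def classIn (P : Sylow 3 G) (b : G) : Finset G := by
  classical exact Finset.univ.filter (fun y => y ∈ (P : Subgroup G) ∧ IsConj b y)

theorem mem_classIn {b y : G} : y ∈ classIn P b ↔ y ∈ (P : Subgroup G) ∧ IsConj b y := by
  simp [classIn]

theorem ne_one_of_isConj {b y : G} (hb : b ≠ 1) (h : IsConj b y) : y ≠ 1 := fun e => hb (by
  obtain ⟨g, hg⟩ := isConj_iff.1 h
  rw [e] at hg
  calc b = g⁻¹ * (g * b * g⁻¹) * g := by group
    _ = 1 := by rw [hg]; group)

/-- The conjugators of b onto a given element of P form a coset of P. -/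
theorem card_conjugators (h : Data P) {b y : G} (hb : b ∈ (P : Subgroup G)) (hb1 : b ≠ 1)
    (hy : IsConj b y) : Nat.card {g : G // g * b * g⁻¹ = y} = 9 := by
  obtain ⟨g₀, hg₀⟩ := isConj_iff.1 hy
  rw [← h.card]
  refine Nat.card_congr ⟨fun g => ⟨g₀⁻¹ * g, ?_⟩, fun s => ⟨g₀ * s, ?_⟩, ?_, ?_⟩
  · refine h.mem_of_commute hb hb1 ?_
    show b * (g₀⁻¹ * g) = g₀⁻¹ * g * b
    calc b * (g₀⁻¹ * g) = g₀⁻¹ * (g₀ * b * g₀⁻¹) * g := by group
      _ = g₀⁻¹ * ((g : G) * b * (g : G)⁻¹) * g := by rw [hg₀, g.2]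
      _ = _ := by group
  · calc g₀ * (s : G) * b * (g₀ * (s : G))⁻¹ = g₀ * ((s : G) * b * (s : G)⁻¹) * g₀⁻¹ := by group
      _ = y := by rw [h.comm s s.2 b hb, mul_inv_cancel_right, hg₀]
  · intro g; exact Subtype.ext (mul_inv_cancel_left g₀ (g : G))
  · intro s; exact Subtype.ext (inv_mul_cancel_left g₀ (s : G))

theorem sum_normalizer (h : Data P) {b : G} (hb : b ∈ (P : Subgroup G)) (hb1 : b ≠ 1)
    (p : G → Prop) [DecidablePred p] :
    Nat.card {g : G // g ∈ normalizer ((P : Subgroup G) : Set G) ∧ p (g * b * g⁻¹)} =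
      9 * ((classIn P b).filter p).card := by
  classical
  rw [Nat.card_eq_fintype_card, Fintype.card_subtype]
  rw [Finset.card_eq_sum_card_fiberwise (f := fun g => g * b * g⁻¹) (t := (classIn P b).filter p)]
  · rw [mul_comm, ← smul_eq_mul, ← Finset.sum_const]
    refine Finset.sum_congr rfl fun y hy => ?_
    obtain ⟨hy1, hy2⟩ := Finset.mem_filter.1 hy
    obtain ⟨hyP, hyc⟩ := mem_classIn.1 hy1
    rw [← card_conjugators h hb hb1 hyc, Nat.card_eq_fintype_card, Fintype.card_subtype,
      Finset.filter_filter]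
    refine congrArg Finset.card (Finset.ext fun g => ?_)
    simp only [Finset.mem_filter, Finset.mem_univ, true_and]
    refine ⟨fun hg => hg.2, fun hg => ⟨⟨h.mem_normalizer_of_conj hb hb1 (hg ▸ hyP), hg ▸ hy2⟩, hg⟩⟩
  · intro g hg
    obtain ⟨hgN, hgp⟩ := (Finset.mem_filter.1 hg).2
    exact Finset.mem_filter.2 ⟨mem_classIn.2 ⟨((mem_normalizer_iff.1 hgN) b).1 hb,
      isConj_iff.2 ⟨g, rfl⟩⟩, hgp⟩

theorem card_classIn (h : Data P) {b : G} (hb : b ∈ (P : Subgroup G)) (hb1 : b ≠ 1) :
    Nat.card (normalizer ((P : Subgroup G) : Set G)) = 9 * (classIn P b).card := by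
  classical
  rw [show (classIn P b) = (classIn P b).filter (fun _ => True) by simp,
    ← sum_normalizer h hb hb1 (fun _ => True)]
  exact Nat.card_congr (Equiv.subtypeEquivRight fun g => by simp)

/-- The common size of the fusion classes in P is one, two, four or eight. -/
theorem classSize_dvd (h : Data P) {b : G} (hb : b ∈ (P : Subgroup G)) (hb1 : b ≠ 1) :
    (classIn P b).card ∣ 8 := by
  classical
  let T : Finset G := Finset.univ.filter (fun y => y ∈ (P : Subgroup G) ∧ y ≠ 1)
  have hT : T.card = 8 := by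
    have h1 : T = (Finset.univ.filter (fun y => y ∈ (P : Subgroup G))).erase 1 := by
      ext y; simp [T, and_comm]
    rw [h1, Finset.card_erase_of_mem (by simp [one_mem]), ← Fintype.card_subtype,
      ← Nat.card_eq_fintype_card, h.card]
  rw [← hT, Finset.card_eq_sum_card_fiberwise (f := ConjClasses.mk) (t := T.image ConjClasses.mk)
    (fun y hy => Finset.mem_image_of_mem _ hy)]
  refine Finset.dvd_sum fun C hC => ?_
  obtain ⟨y, hy, rfl⟩ := Finset.mem_image.1 hC
  obtain ⟨hyP, hy1⟩ := (Finset.mem_filter.1 hy).2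
  have h2 : T.filter (fun z => ConjClasses.mk z = ConjClasses.mk y) = classIn P y := by
    ext z
    simp only [T, Finset.filter_filter, Finset.mem_filter, Finset.mem_univ, true_and,
      ConjClasses.mk_eq_mk_iff_isConj, mem_classIn]
    exact ⟨fun hz => ⟨hz.1.1, hz.2.symm⟩, fun hz => ⟨⟨hz.1, ne_one_of_isConj hy1 hz.2⟩, hz.2.symm⟩⟩
  rw [h2]
  have e1 := card_classIn h hb hb1
  have e2 := card_classIn h hyP hy1
  exact dvd_of_eq (by omega)

variable [IsSimpleGroup G]

theorem classSize_ne_one (h : Data P) {b : G} (hb : b ∈ (P : Subgroup G)) (hb1 : b ≠ 1) :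
    (classIn P b).card ≠ 1 := by
  intro hcard
  have hN : normalizer ((P : Subgroup G) : Set G) = (P : Subgroup G) :=
    (eq_of_le_of_card_ge le_normalizer (by rw [card_classIn h hb hb1, hcard, h.card])).symm
  have hle : normalizer ((P : Subgroup G) : Set G) ≤ centralizer ((P : Subgroup G) : Set G) := by
    rw [hN]
    intro s hs
    rw [mem_centralizer_iff]
    exact fun t ht => h.comm t ht s hs
  haveI : Fact (Nat.Prime 3) := ⟨Nat.prime_three⟩
  have hc := MonoidHom.ker_transferSylow_isComplement' P hle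
  rcases (inferInstance : (MonoidHom.transferSylow P hle).ker.Normal).eq_bot_or_eq_top with he | he
  · rw [he, isComplement'_bot_left] at hc
    have h9 : Nat.card G = 9 := by rw [← h.card, hc, card_top]
    refine SmallGroups.not_isPGroup (p := 3) (SmallGroups.not_isMulCommutative_of_not_prime ?_)
      (IsPGroup.of_card (n := 2) h9)
    rw [h9]; norm_num
  · rw [he, isComplement'_top_left] at hc
    have h9 := h.card
    rw [hc, card_bot] at h9
    omega

theorem classSize_cases (h : Data P) {b : G} (hb : b ∈ (P : Subgroup G)) (hb1 : b ≠ 1) :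
    (classIn P b).card = 2 ∨ (classIn P b).card = 4 ∨ (classIn P b).card = 8 := by
  have h1 := classSize_dvd h hb hb1
  have h2 := classSize_ne_one h hb hb1
  have h3 : (classIn P b).card ≤ 8 := Nat.le_of_dvd (by norm_num) h1
  interval_cases (classIn P b).card <;> omega

/-- Every element of P is conjugate to its inverse. -/
theorem isConj_inv (h : Data P) {b : G} (hb : b ∈ (P : Subgroup G)) (hb1 : b ≠ 1) :
    IsConj b b⁻¹ := by
  classical
  haveI : Fact (Nat.Prime 2) := ⟨Nat.prime_two⟩
  have heven : 2 ∣ Nat.card (normalizer ((P : Subgroup G) : Set G)) := by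
    rw [card_classIn h hb hb1]
    rcases classSize_cases h hb hb1 with e | e | e <;> rw [e] <;> norm_num
  obtain ⟨x, hx⟩ := exists_prime_orderOf_dvd_card' (G := normalizer ((P : Subgroup G) : Set G)) 2 heven
  have hx2 : (x : G) * (x : G) = 1 := by
    have := congrArg Subtype.val (pow_orderOf_eq_one x)
    rw [hx] at this
    simpa [pow_two] using this
  have hxne : (x : G) ≠ 1 := fun e => by
    rw [show x = 1 from Subtype.ext e, orderOf_one] at hx; omega
  set b' := (x : G) * b * (x : G)⁻¹ with hb'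
  have hb'P : b' ∈ (P : Subgroup G) := ((mem_normalizer_iff.1 x.2) b).1 hb
  refine isConj_iff.2 ⟨x, ?_⟩
  rw [← hb', eq_inv_iff_mul_eq_one]
  by_contra hne
  have hcom : Commute (b' * b) (x : G) := by
    show b' * b * x = x * (b' * b)
    have hxi : (x : G)⁻¹ = x := inv_eq_of_mul_eq_one_right hx2
    calc b' * b * x = b * b' * x := by rw [h.comm b hb b' hb'P]
      _ = b * x * b * ((x : G) * x) := by rw [hb', hxi]; simp only [mul_assoc]
      _ = (x : G) * x * b * x * b := by rw [hx2, mul_one, one_mul]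
      _ = x * (b' * b) := by rw [hb', hxi]; simp only [mul_assoc]
  have hxP := h.mem_of_commute (mul_mem hb'P hb) hne hcom
  have h3 := h.exp _ hxP
  rw [pow_three, hx2, mul_one] at h3
  exact hxne h3

omit [IsSimpleGroup G] in
theorem apply_conj (χ : IrrCharacter G) {a b : G} (hab : IsConj a b) :
    (χ : G → ℂ) a = (χ : G → ℂ) b :=
  (Chars.isClassFunction_apply_eq (Chars.irr_isClassFunction χ) hab.symm)

/-- Values on P are rational integers congruent to the degree modulo three. -/
theorem exists_value (h : Data P) (χ : IrrCharacter G) {b : G} (hb : b ∈ (P : Subgroup G))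
    (hb1 : b ≠ 1) :
    ∃ v : ℤ, (χ : G → ℂ) b = (v : ℂ) ∧ (3 : ℤ) ∣ (charDegree (χ : G → ℂ) : ℤ) - v := by
  classical
  obtain ⟨d, -, hd⟩ := Chars.isIrrCharacter_exists_degree_pos χ.2
  have hdeg : charDegree (χ : G → ℂ) = d := by simp [charDegree, hd]
  obtain ⟨m, hm⟩ := CharCount.exists_nat_sum_subgroup χ (zpowers b)
  have ho := h.isConj_inv_iff_orderOf hb hb1
  rw [Nat.card_zpowers, ho, ← (finEquivZPowers (isOfFinOrder_of_finite b)).sum_comp] at hm
  simp only [finEquivZPowers_apply] at hm
  rw [Fin.sum_univ_eq_sum_range (fun i => (χ : G → ℂ) (b ^ i)), ho, Finset.sum_range_succ,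
    Finset.sum_range_succ, Finset.sum_range_one, pow_zero, pow_one, hd] at hm
  have hsq : (χ : G → ℂ) (b ^ 2) = (χ : G → ℂ) b := by
    refine (apply_conj χ ?_).symm
    have : b ^ 2 = b⁻¹ := eq_inv_of_mul_eq_one_left (by rw [← pow_succ, h.exp b hb])
    rw [this]
    exact isConj_inv h hb hb1
  rw [hsq] at hm
  obtain ⟨v, hv⟩ := BSW.exists_int_of_isIntegral_rat (z := (χ : G → ℂ) b)
    (Chars.isCharacter_isIntegral (Chars.irr_isCharacter χ) b) (r := (3 * m - d : ℚ) / 2)
    (by push_cast at hm ⊢; linear_combination hm / 2)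
  refine ⟨v, hv, ?_⟩
  rw [hv] at hm
  have h1 : (d : ℤ) + v + v = 3 * m := by exact_mod_cast hm
  rw [hdeg]
  omega

/-- The value as an integer. -/
noncomputable def val (h : Data P) {b : G} (hb : b ∈ (P : Subgroup G)) (hb1 : b ≠ 1)
    (χ : IrrCharacter G) : ℤ :=
  Classical.choose (exists_value h χ hb hb1)

theorem val_spec (h : Data P) {b : G} (hb : b ∈ (P : Subgroup G)) (hb1 : b ≠ 1)
    (χ : IrrCharacter G) : (χ : G → ℂ) b = (val h hb hb1 χ : ℂ) :=
  (Classical.choose_spec (exists_value h χ hb hb1)).1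

theorem val_congr (h : Data P) {b : G} (hb : b ∈ (P : Subgroup G)) (hb1 : b ≠ 1)
    (χ : IrrCharacter G) : (3 : ℤ) ∣ (charDegree (χ : G → ℂ) : ℤ) - val h hb hb1 χ :=
  (Classical.choose_spec (exists_value h χ hb hb1)).2

theorem val_mul_sum (h : Data P) {a b : G} (ha : a ∈ (P : Subgroup G)) (ha1 : a ≠ 1)
    (hb : b ∈ (P : Subgroup G)) (hb1 : b ≠ 1) [Decidable (IsConj a b)] :
    ∑ χ : IrrCharacter G, val h ha ha1 χ * val h hb hb1 χ = if IsConj a b then 9 else 0 := by
  refine Int.cast_injective (α := ℂ) ?_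
  push_cast
  simp only [← val_spec h ha ha1, ← val_spec h hb hb1]
  have hconj : ∀ χ : IrrCharacter G, (χ : G → ℂ) b = conj ((χ : G → ℂ) b) := fun χ => by
    rw [val_spec h hb hb1, map_intCast]
  conv_lhs => enter [2, χ]; rw [hconj χ]
  split_ifs with hab
  · rw [Chars.column_orthogonality_of_isConj hab, h.cent a ha ha1, h.card]
    norm_num
  · rw [Chars.column_orthogonality_of_not_isConj hab]

theorem degree_mul_sum (h : Data P) {b : G} (hb : b ∈ (P : Subgroup G)) (hb1 : b ≠ 1) :
    ∑ χ : IrrCharacter G, (charDegree (χ : G → ℂ) : ℤ) * val h hb hb1 χ = 0 := by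
  classical
  refine Int.cast_injective (α := ℂ) ?_
  push_cast
  have hnc : ¬ IsConj b 1 := fun e => ne_one_of_isConj hb1 e rfl
  rw [← Chars.column_orthogonality_of_not_isConj hnc]
  refine Finset.sum_congr rfl fun χ _ => ?_
  obtain ⟨d, -, hd⟩ := Chars.isIrrCharacter_exists_degree_pos χ.2
  rw [← val_spec h hb hb1, hd, Complex.conj_natCast, mul_comm]
  simp [charDegree, hd]

/-- The counting formula for products of conjugates in P. -/
theorem triple_formula (h : Data P) {a b c : G} (ha : a ∈ (P : Subgroup G)) (ha1 : a ≠ 1)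
    (hb : b ∈ (P : Subgroup G)) (hb1 : b ≠ 1) (hc : c ∈ (P : Subgroup G)) (hc1 : c ≠ 1)
    (hnot : ¬ (IsConj a b ∧ IsConj a c)) [DecidablePred fun y => IsConj (a * y) c] :
    (Nat.card G : ℂ) * ∑ χ : IrrCharacter G,
        (χ : G → ℂ) a * (χ : G → ℂ) b * (χ : G → ℂ) c / (χ : G → ℂ) 1 =
      81 * (((classIn P b).filter fun y => IsConj (a * y) c).card : ℂ) := by
  classical
  have hN : Nat.card {x : G // IsConj (a * (x * b * x⁻¹)) c} =
      Nat.card {g : G // g ∈ normalizer ((P : Subgroup G) : Set G) ∧ IsConj (a * (g * b * g⁻¹)) c} := by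
    refine Nat.card_congr (Equiv.subtypeEquivRight fun x => ⟨fun hx => ⟨?_, hx⟩, fun hx => hx.2⟩)
    set y := x * b * x⁻¹ with hy
    have hyb : IsConj b y := isConj_iff.2 ⟨x, rfl⟩
    have ha3 := h.exp a ha
    have hy3 : y ^ 3 = 1 := by rw [hy, conj_pow, h.exp b hb, mul_one, mul_inv_cancel]
    have hay3 : (a * y) ^ 3 = 1 := by
      obtain ⟨g, hg⟩ := isConj_iff.1 hx.symm
      rw [← hg, conj_pow, h.exp c hc, mul_one, mul_inv_cancel]
    have hC1 : ∀ s t : G, s ≠ 1 → Commute s a → Commute s t → Commute a t := fun s t =>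
      h.commute_trans ha ha1 (IsConj.refl a)
    have hcm : Commute a y := by
      rcases isConj_or_commute ha3 hy3 hay3 hC1 with h1 | h1
      · exact h1
      · have hC2 : ∀ s t : G, s ≠ 1 → Commute s y → Commute s t → Commute y t := fun s t =>
          h.commute_trans hb hb1 hyb
        rcases isConj_or_commute (y := (a * y)⁻¹) hy3 (by rw [inv_pow, hay3, inv_one])
          (by rw [mul_inv_rev, mul_inv_cancel_left, inv_pow, ha3, inv_one]) hC2 with h2 | h2
        · have h3 : Commute y (a * y) := by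
            have := h2.inv_right; rwa [inv_inv] at this
          have h4 : a = (a * y) * y⁻¹ := by group
          have := h3.mul_right (Commute.refl y).inv_right
          rw [← h4] at this
          exact this.symm
        · refine absurd ⟨h1.trans hyb.symm, ?_⟩ hnot
          have h3 : IsConj c c⁻¹ := isConj_inv h hc hc1
          have h4 : IsConj (a * y)⁻¹ c⁻¹ := by
            obtain ⟨g, hg⟩ := isConj_iff.1 hx
            exact isConj_iff.2 ⟨g, by rw [← hg]; group⟩
          exact h1.trans (h2.trans (h4.trans h3.symm))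
    exact h.mem_normalizer_of_conj hb hb1 (h.mem_of_commute ha ha1 hcm)
  rw [sum_normalizer h hb hb1 (fun y => IsConj (a * y) c)] at hN
  have hsum : ∑ x : G, ∑ χ : IrrCharacter G,
      (χ : G → ℂ) (a * (x * b * x⁻¹)) * conj ((χ : G → ℂ) c) =
      9 * (Nat.card {x : G // IsConj (a * (x * b * x⁻¹)) c} : ℂ) := by
    have : ∀ x : G, ∑ χ : IrrCharacter G,
        (χ : G → ℂ) (a * (x * b * x⁻¹)) * conj ((χ : G → ℂ) c) =
        if IsConj (a * (x * b * x⁻¹)) c then 9 else 0 := fun x => by
      split_ifs with hx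
      · rw [Chars.column_orthogonality_of_isConj hx, Chars.card_centralizer_eq_of_isConj hx,
          h.cent c hc hc1, h.card]
        norm_num
      · exact Chars.column_orthogonality_of_not_isConj hx
    rw [Finset.sum_congr rfl fun x _ => this x, ← Finset.sum_filter, Finset.sum_const,
      Nat.card_eq_fintype_card, Fintype.card_subtype, nsmul_eq_mul, mul_comm]
  rw [Finset.sum_comm] at hsum
  simp only [← Finset.sum_mul, CharCount.sum_conj_mul] at hsum
  rw [hN] at hsum
  push_cast at hsum
  rw [show (81 : ℂ) * (((classIn P b).filter fun y => IsConj (a * y) c).card : ℂ) =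
    9 * (9 * (((classIn P b).filter fun y => IsConj (a * y) c).card : ℂ)) by ring, ← hsum,
    Finset.mul_sum]
  refine Finset.sum_congr rfl fun χ _ => ?_
  rw [show conj ((χ : G → ℂ) c) = (χ : G → ℂ) c by rw [val_spec h hc hc1, map_intCast]]
  ring

end Cfsg.Agent.Lib.ThreeSelfCentral
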