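import Mathlib
import Cfsg.Agent.Lib.ThreeSelfCentral.Classes

/-!
# A simple group with self-centralising Sylow 3-subgroup of order nine has order 360 or 684
-/

set_option autoImplicit false

namespace Cfsg.Agent.Lib.ThreeSelfCentral

open Subgroup Cfsg
open Cfsg.Agent.Lib

/-- Two integer columns of norm nine, orthogonal to each other and to the degrees. -/
theorem exists_two {ι : Type*} [Fintype ι] (vu vw : ι → ℤ) (d : ι → ℕ) (o : ι) (hou : vu o = 1)
    (how : vw o = 1) (hd : ∀ i, 0 < d i) (hu : ∑ i, vu i * vu i = 9) (hw : ∑ i, vw i * vw i = 9)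
    (huw : ∑ i, vu i * vw i = 0) (hdu : ∑ i, (d i : ℤ) * vu i = 0)
    (hdw : ∑ i, (d i : ℤ) * vw i = 0) (cu : ∀ i, (3 : ℤ) ∣ (d i : ℤ) - vu i)
    (cw : ∀ i, (3 : ℤ) ∣ (d i : ℤ) - vw i) :
    ∃ i j, i ≠ j ∧ i ≠ o ∧ j ≠ o ∧ vw i = vu i - 3 ∧ vw j = vu j + 3 ∧ d i = d j ∧
      (∀ k, k ≠ i → k ≠ j → vw k = vu k) ∧ (∀ k, k ≠ o → |vu k| ≤ 2 ∧ |vw k| ≤ 2) := by
  classical
  have hb : ∀ (v : ι → ℤ), v o = 1 → ∑ i, v i * v i = 9 → ∀ k, k ≠ o → |v k| ≤ 2 := by
    intro v ho hv k hk
    have hle : v o * v o + v k * v k ≤ 9 := by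
      rw [← hv, ← Finset.sum_pair (f := fun i => v i * v i) hk.symm]
      exact Finset.sum_le_sum_of_subset_of_nonneg (Finset.subset_univ _)
        (fun i _ _ => mul_self_nonneg _)
    rw [ho] at hle
    rw [abs_le]
    constructor <;> nlinarith
  let δ : ι → ℤ := fun i => vu i - vw i
  have hδ : ∀ i, δ i = 0 ∨ δ i = 3 ∨ δ i = -3 := by
    intro i
    by_cases hio : i = o
    · left; simp [δ, hio, hou, how]
    · have h1 := abs_le.1 (hb vu hou hu i hio)
      have h2 := abs_le.1 (hb vw how hw i hio)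
      have h3 := cu i
      have h4 := cw i
      simp only [δ]
      omega
  have hsq : ∑ i, δ i * δ i = 18 := by
    have : ∀ i, δ i * δ i = vu i * vu i + vw i * vw i - 2 * (vu i * vw i) := fun i => by
      simp only [δ]; ring
    rw [Finset.sum_congr rfl fun i _ => this i, Finset.sum_sub_distrib, Finset.sum_add_distrib,
      ← Finset.mul_sum, hu, hw, huw]
    norm_num
  set S := Finset.univ.filter (fun i => δ i ≠ 0) with hS
  have hcard : S.card = 2 := by
    have h9 : ∑ i ∈ S, δ i * δ i = ∑ i ∈ S, (9 : ℤ) := Finset.sum_congr rfl fun i hi => by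
      have := (Finset.mem_filter.1 hi).2
      rcases hδ i with e | e | e <;> simp_all
    have : ∑ i ∈ S, δ i * δ i = 18 := by
      rw [← hsq]
      refine Finset.sum_subset (Finset.subset_univ _) fun i _ hi => ?_
      have : δ i = 0 := by by_contra hne; exact hi (Finset.mem_filter.2 ⟨Finset.mem_univ _, hne⟩)
      rw [this, mul_zero]
    rw [h9, Finset.sum_const, nsmul_eq_mul] at this
    omega
  obtain ⟨i, j, hij, hSij⟩ := Finset.card_eq_two.1 hcard
  have hout : ∀ k, k ≠ i → k ≠ j → δ k = 0 := fun k hki hkj => by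
    by_contra hne
    have : k ∈ S := Finset.mem_filter.2 ⟨Finset.mem_univ _, hne⟩
    rw [hSij, Finset.mem_insert, Finset.mem_singleton] at this
    tauto
  have hi0 : δ i ≠ 0 := (Finset.mem_filter.1 (hSij ▸ Finset.mem_insert_self i {j} : i ∈ S)).2
  have hj0 : δ j ≠ 0 := by
    have : j ∈ S := by rw [hSij]; exact Finset.mem_insert_of_mem (Finset.mem_singleton_self j)
    exact (Finset.mem_filter.1 this).2
  have hlin : (d i : ℤ) * δ i + (d j : ℤ) * δ j = 0 := by
    rw [← Finset.sum_pair (f := fun k => (d k : ℤ) * δ k) hij]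
    rw [Finset.sum_subset (Finset.subset_univ _) (fun k _ hk => by
      simp only [Finset.mem_insert, Finset.mem_singleton, not_or] at hk
      rw [hout k hk.1 hk.2, mul_zero])]
    simp only [δ, mul_sub, Finset.sum_sub_distrib, hdu, hdw, sub_zero]
  have hio : i ≠ o := fun e => hi0 (by simp [δ, e, hou, how])
  have hjo : j ≠ o := fun e => hj0 (by simp [δ, e, hou, how])
  have hbd : ∀ k, k ≠ o → |vu k| ≤ 2 ∧ |vw k| ≤ 2 := fun k hk => ⟨hb vu hou hu k hk, hb vw how hw k hk⟩
  have hdi := hd i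
  have hdj := hd j
  rcases hδ i with e | e | e
  · exact absurd e hi0
  · have e' : δ j = -3 := by
      rcases hδ j with f | f | f
      · exact absurd f hj0
      · rw [e, f] at hlin; omega
      · exact f
    rw [e, e'] at hlin
    refine ⟨i, j, hij, hio, hjo, by simp only [δ] at e; omega, by simp only [δ] at e'; omega,
      by omega, fun k h1 h2 => ?_, hbd⟩
    have := hout k h1 h2; simp only [δ] at this; omega
  · have e' : δ j = 3 := by
      rcases hδ j with f | f | f
      · exact absurd f hj0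
      · exact f
      · rw [e, f] at hlin; omega
    rw [e, e'] at hlin
    refine ⟨j, i, hij.symm, hjo, hio, by simp only [δ] at e'; omega, by simp only [δ] at e; omega,
      by omega, fun k h1 h2 => ?_, hbd⟩
    have := hout k h2 h1; simp only [δ] at this; omega

variable {G : Type*} [Group G] [Fintype G] [IsSimpleGroup G] {P : Sylow 3 G}

theorem deg_spec (χ : IrrCharacter G) :
    0 < charDegree (χ : G → ℂ) ∧ (χ : G → ℂ) 1 = (charDegree (χ : G → ℂ) : ℂ) := by
  obtain ⟨d, hd0, hd⟩ := Chars.isIrrCharacter_exists_degree_pos χ.2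
  have : charDegree (χ : G → ℂ) = d := by simp [charDegree, hd]
  rw [this]
  exact ⟨hd0, hd⟩

theorem sum_sq_degree : ∑ χ : IrrCharacter G, ((charDegree (χ : G → ℂ) : ℤ)) ^ 2 = Nat.card G := by
  refine Int.cast_injective (α := ℂ) ?_
  push_cast
  rw [← Chars.sum_degree_sq]
  exact Finset.sum_congr rfl fun χ _ => by rw [(deg_spec χ).2]

omit [IsSimpleGroup G] in
theorem val_triv [IsSimpleGroup G] (h : Data P) {b : G} (hb : b ∈ (P : Subgroup G)) (hb1 : b ≠ 1) :
    val h hb hb1 (Chars.trivialIrr G) = 1 := by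
  have := val_spec h hb hb1 (Chars.trivialIrr G)
  simp [Chars.trivialIrr] at this
  exact_mod_cast this.symm

/-- The two distinguished characters for a pair of nonconjugate elements. -/
theorem pair_chars (h : Data P) {a c : G} (ha : a ∈ (P : Subgroup G)) (ha1 : a ≠ 1)
    (hc : c ∈ (P : Subgroup G)) (hc1 : c ≠ 1) (hac : ¬ IsConj a c) :
    ∃ i j : IrrCharacter G, i ≠ j ∧ i ≠ Chars.trivialIrr G ∧ j ≠ Chars.trivialIrr G ∧
      val h hc hc1 i = val h ha ha1 i - 3 ∧ val h hc hc1 j = val h ha ha1 j + 3 ∧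
      charDegree (i : G → ℂ) = charDegree (j : G → ℂ) ∧
      (∀ k, k ≠ i → k ≠ j → val h hc hc1 k = val h ha ha1 k) ∧
      (∀ k, k ≠ Chars.trivialIrr G → |val h ha ha1 k| ≤ 2 ∧ |val h hc hc1 k| ≤ 2) := by
  classical
  exact exists_two _ _ _ _ (val_triv h ha ha1) (val_triv h hc hc1) (fun χ => (deg_spec χ).1)
    (by rw [val_mul_sum h ha ha1 ha ha1, if_pos (IsConj.refl a)])
    (by rw [val_mul_sum h hc hc1 hc hc1, if_pos (IsConj.refl c)])
    (by rw [val_mul_sum h ha ha1 hc hc1, if_neg hac])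
    (degree_mul_sum h ha ha1) (degree_mul_sum h hc hc1) (val_congr h ha ha1) (val_congr h hc hc1)

theorem card_classIn_two {a : G} (h : Data P) (ha : a ∈ (P : Subgroup G)) (ha1 : a ≠ 1)
    (h2 : (classIn P a).card = 2) {y : G} : y ∈ classIn P a ↔ y = a ∨ y = a⁻¹ := by
  classical
  have hne : a ≠ a⁻¹ := fun e => ha1 (by
    have h3 := h.exp a ha
    rw [pow_three] at h3
    conv_lhs at h3 => arg 2; arg 2; rw [e]
    simpa using h3)
  have : ({a, a⁻¹} : Finset G) = classIn P a := by
    refine Finset.eq_of_subset_of_card_le ?_ (by rw [h2, Finset.card_pair hne])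
    intro z hz
    rcases Finset.mem_insert.1 hz with rfl | hz
    · exact mem_classIn.2 ⟨ha, IsConj.refl _⟩
    · rw [Finset.mem_singleton.1 hz]
      exact mem_classIn.2 ⟨inv_mem ha, isConj_inv h ha ha1⟩
  rw [← this, Finset.mem_insert, Finset.mem_singleton]

theorem two_false (h : Data P) {a : G} (ha : a ∈ (P : Subgroup G)) (ha1 : a ≠ 1)
    (h2 : (classIn P a).card = 2) (hn : 10 ≤ (normalizer ((P : Subgroup G) : Set G)).index) :
    False := by
  classical
  have hall : ∀ {b : G}, b ∈ (P : Subgroup G) → b ≠ 1 → (classIn P b).card = 2 := fun hb hb1 => by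
    have e1 := card_classIn h ha ha1
    have e2 := card_classIn h hb hb1
    omega
  have hconj : ∀ {s t : G}, s ∈ (P : Subgroup G) → s ≠ 1 → t ∈ (P : Subgroup G) → IsConj s t →
      t = s ∨ t = s⁻¹ := fun hs hs1 ht hst =>
    (card_classIn_two h hs hs1 (hall hs hs1)).1 (mem_classIn.2 ⟨ht, hst⟩)
  obtain ⟨b, hb, hbz⟩ : ∃ b ∈ (P : Subgroup G), b ∉ zpowers a := by
    by_contra hcon
    push_neg at hcon
    have := card_le_of_le (show (P : Subgroup G) ≤ zpowers a from fun x hx => hcon x hx)
    rw [h.card, Nat.card_zpowers, h.isConj_inv_iff_orderOf ha ha1] at this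
    omega
  have hb1 : b ≠ 1 := fun e => hbz (e ▸ one_mem _)
  have hbi : ∀ z ∈ zpowers a, b ≠ z := fun z hz e => hbz (e ▸ hz)
  have haa : a * a = a⁻¹ := eq_inv_of_mul_eq_one_left (by rw [← h.exp a ha, pow_three, mul_assoc])
  set c := a * b with hc'
  have hc : c ∈ (P : Subgroup G) := mul_mem ha hb
  have hc1 : c ≠ 1 := fun e => hbi a⁻¹ (inv_mem (mem_zpowers a)) (eq_inv_of_mul_eq_one_right e)
  have hab : ¬ IsConj a b := fun e => by
    rcases hconj ha ha1 hb e with e' | e'
    · exact hbi a (mem_zpowers a) e'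
    · exact hbi a⁻¹ (inv_mem (mem_zpowers a)) e'
  have hac : ¬ IsConj a c := fun e => by
    rcases hconj ha ha1 hc e with e' | e'
    · exact hb1 (mul_left_cancel (e'.trans (mul_one a).symm))
    · refine hbi a (mem_zpowers a) (mul_left_cancel (a := a) ?_)
      rw [haa]; exact e'
  have hne : b ≠ b⁻¹ := fun e => hb1 (by
    have h3 := h.exp b hb
    rw [pow_three] at h3
    conv_lhs at h3 => arg 2; arg 2; rw [e]
    simpa using h3)
  have hane : a ≠ a⁻¹ := fun e => ha1 (by
    have h3 := h.exp a ha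
    rw [pow_three] at h3
    conv_lhs at h3 => arg 2; arg 2; rw [e]
    simpa using h3)
  have hf1 : ((classIn P b).filter fun y => IsConj (a * y) c) = {b} := by
    ext y
    rw [Finset.mem_filter, card_classIn_two h hb hb1 (hall hb hb1), Finset.mem_singleton]
    refine ⟨fun ⟨hy, hyc⟩ => hy.resolve_right fun e => ?_, fun e => ⟨Or.inl e, e ▸ IsConj.refl _⟩⟩
    subst e
    rcases hconj hc hc1 (mul_mem ha (inv_mem hb)) hyc.symm with e' | e'
    · exact hne (mul_left_cancel e').symm
    · rw [hc', mul_inv_rev, h.comm b⁻¹ (inv_mem hb) a⁻¹ (inv_mem ha)] at e'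
      exact hane (mul_right_cancel e')
  have hf0 : ((classIn P b).filter fun y => IsConj (a * y) a) = ∅ := by
    rw [Finset.filter_eq_empty_iff]
    intro y hy hya
    obtain ⟨hyP, hby⟩ := mem_classIn.1 hy
    rcases hconj ha ha1 (mul_mem ha hyP) hya.symm with e' | e'
    · exact ne_one_of_isConj hb1 hby (mul_left_cancel (e'.trans (mul_one a).symm))
    · refine hab ?_
      have : y = a := mul_left_cancel (a := a) (e'.trans haa.symm)
      exact this ▸ hby.symm
  have F1 := triple_formula h ha ha1 hb hb1 hc hc1 (fun e => hab e.1)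
  have F0 := triple_formula h ha ha1 hb hb1 ha ha1 (fun e => hab e.1)
  rw [hf1, Finset.card_singleton] at F1
  rw [hf0, Finset.card_empty] at F0
  obtain ⟨i, j, hij, hio, hjo, hvi, hvj, hdeg, hout, -⟩ := pair_chars h ha ha1 hc hc1 hac
  set va := val h ha ha1 with hva
  set vb := val h hb hb1 with hvb
  set di := charDegree (i : G → ℂ) with hdi
  have hpair : ∑ χ : IrrCharacter G, (χ : G → ℂ) a * (χ : G → ℂ) b *
      ((χ : G → ℂ) c - (χ : G → ℂ) a) / (χ : G → ℂ) 1 =
      ((-3 * (va i * vb i) + 3 * (va j * vb j) : ℤ) : ℂ) / (di : ℂ) := by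
    rw [← Finset.sum_subset (Finset.subset_univ {i, j}) (fun k _ hk => by
      simp only [Finset.mem_insert, Finset.mem_singleton, not_or] at hk
      rw [val_spec h hc hc1, val_spec h ha ha1, hout k hk.1 hk.2, sub_self, mul_zero, zero_div]),
      Finset.sum_pair hij, val_spec h hc hc1 i, val_spec h hc hc1 j, val_spec h ha ha1 i,
      val_spec h ha ha1 j, val_spec h hb hb1 i, val_spec h hb hb1 j, hvi, hvj, (deg_spec i).2,
      (deg_spec j).2, ← hdeg, ← hva, ← hvb, ← hdi]
    push_cast
    ring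
  have hdiff : (Nat.card G : ℂ) * (((-3 * (va i * vb i) + 3 * (va j * vb j) : ℤ) : ℂ) / (di : ℂ)) =
      81 := by
    rw [← hpair]
    simp only [mul_sub, sub_div, Finset.sum_sub_distrib]
    rw [F1, F0]
    norm_num
  have hdi0 : (di : ℂ) ≠ 0 := Nat.cast_ne_zero.2 (deg_spec i).1.ne'
  rw [mul_div_assoc', div_eq_iff hdi0] at hdiff
  have hint : (Nat.card G : ℤ) * (-3 * (va i * vb i) + 3 * (va j * vb j)) = 81 * (di : ℤ) := by
    exact_mod_cast hdiff
  obtain ⟨K, hK⟩ : (3 : ℤ) ∣ va j * vb j - va i * vb i := by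
    have key : ∀ x X y Y z : ℤ, (3 : ℤ) ∣ z - x → (3 : ℤ) ∣ z - X → (3 : ℤ) ∣ z - y →
        (3 : ℤ) ∣ z - Y → (3 : ℤ) ∣ y * Y - x * X := by
      rintro x X y Y z ⟨p, hp⟩ ⟨q, hq⟩ ⟨r, hr⟩ ⟨s, hs⟩
      exact ⟨-z * s - r * z + 3 * r * s + z * q + p * z - 3 * p * q, by
        rw [show x = z - 3 * p by omega, show X = z - 3 * q by omega,
          show y = z - 3 * r by omega, show Y = z - 3 * s by omega]
        ring⟩
    refine key _ _ _ _ (di : ℤ) ?_ ?_ ?_ ?_
    · exact val_congr h ha ha1 i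
    · exact val_congr h hb hb1 i
    · rw [hdeg]; exact val_congr h ha ha1 j
    · rw [hdeg]; exact val_congr h hb hb1 j
  have hGK9 : 9 * ((Nat.card G : ℤ) * K) = 9 * (9 * di) := by
    linear_combination hint - 3 * (Nat.card G : ℤ) * hK
  have hGK : (Nat.card G : ℤ) * K = 9 * di := by omega
  have hG0 : (0 : ℤ) < Nat.card G := by exact_mod_cast Nat.card_pos
  have hdpos : (0 : ℤ) < di := by exact_mod_cast (deg_spec i).1
  have hKpos : 1 ≤ K := by
    by_contra hle
    nlinarith [mul_nonpos_of_nonneg_of_nonpos hG0.le (by omega : K ≤ 0)]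
  have hle : (Nat.card G : ℤ) ≤ 9 * di := by nlinarith
  have hsq : 2 * (di : ℤ) ^ 2 + 1 ≤ Nat.card G := by
    rw [← sum_sq_degree]
    refine le_trans (le_of_eq ?_) (Finset.sum_le_sum_of_subset_of_nonneg
      (Finset.subset_univ {Chars.trivialIrr G, i, j}) (fun k _ _ => sq_nonneg _))
    rw [Finset.sum_insert (by simp [hio.symm, hjo.symm]), Finset.sum_pair hij, ← hdeg, ← hdi]
    simp [Chars.trivialIrr, charDegree]
    ring
  have hcard : Nat.card G = 18 * (normalizer ((P : Subgroup G) : Set G)).index := by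
    rw [← Subgroup.card_mul_index (normalizer ((P : Subgroup G) : Set G)), card_classIn h ha ha1, h2]
  rw [hcard] at hle hsq
  push_cast at hle hsq
  nlinarith

theorem four_bound (h : Data P) {u : G} (hu : u ∈ (P : Subgroup G)) (hu1 : u ≠ 1)
    (h4 : (classIn P u).card = 4) : Nat.card G ≤ 720 := by
  classical
  let T : Finset G := Finset.univ.filter (fun y => y ∈ (P : Subgroup G) ∧ y ≠ 1)
  have hT1 : insert (1 : G) T = Finset.univ.filter (fun y => y ∈ (P : Subgroup G)) := by
    ext y
    simp only [T, Finset.mem_insert, Finset.mem_filter, Finset.mem_univ, true_and]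
    refine ⟨fun hy => hy.elim (fun e => e ▸ one_mem _) (fun e => e.1), fun hy => ?_⟩
    by_cases e : y = 1
    · exact Or.inl e
    · exact Or.inr ⟨hy, e⟩
  have hT : T.card = 8 := by
    have h1 : (insert (1 : G) T).card = T.card + 1 := Finset.card_insert_of_notMem (by simp [T])
    rw [hT1, ← Fintype.card_subtype, ← Nat.card_eq_fintype_card, h.card] at h1
    omega
  have hsub : classIn P u ⊆ T := fun y hy => by
    obtain ⟨hyP, hyc⟩ := mem_classIn.1 hy
    exact Finset.mem_filter.2 ⟨Finset.mem_univ _, hyP, ne_one_of_isConj hu1 hyc⟩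
  obtain ⟨w, hwT, hwu⟩ : ∃ w ∈ T, w ∉ classIn P u := by
    by_contra hcon
    push_neg at hcon
    have := Finset.card_le_card (show T ⊆ classIn P u from hcon)
    omega
  obtain ⟨hw, hw1⟩ := (Finset.mem_filter.1 hwT).2
  have huw : ¬ IsConj u w := fun e => hwu (mem_classIn.2 ⟨hw, e⟩)
  have h4w : (classIn P w).card = 4 := by
    have e1 := card_classIn h hu hu1
    have e2 := card_classIn h hw hw1
    omega
  have hdisj : Disjoint (classIn P u) (classIn P w) := by
    rw [Finset.disjoint_left]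
    exact fun y hy hy' => huw ((mem_classIn.1 hy).2.trans (mem_classIn.1 hy').2.symm)
  have hunion : classIn P u ∪ classIn P w = T := by
    refine Finset.eq_of_subset_of_card_le (Finset.union_subset hsub fun y hy => ?_) ?_
    · obtain ⟨hyP, hyc⟩ := mem_classIn.1 hy
      exact Finset.mem_filter.2 ⟨Finset.mem_univ _, hyP, ne_one_of_isConj hw1 hyc⟩
    · rw [Finset.card_union_of_disjoint hdisj, h4, h4w, hT]
  have huu : u * u = u⁻¹ := eq_inv_of_mul_eq_one_left (by rw [← h.exp u hu, pow_three, mul_assoc])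
  have hne : ∀ {y : G}, y ∈ (P : Subgroup G) → y ≠ 1 → y ≠ y⁻¹ := fun {y} hy hy1 e => hy1 (by
    have h3 := h.exp y hy
    rw [pow_three] at h3
    conv_lhs at h3 => arg 2; arg 2; rw [e]
    simpa using h3)
  have hfil : ((classIn P u).filter fun y => IsConj (u * y) w) =
      ((classIn P u).erase u).erase u⁻¹ := by
    ext y
    simp only [Finset.mem_filter, Finset.mem_erase]
    constructor
    · rintro ⟨hy, hyw⟩
      refine ⟨fun e => ?_, fun e => ?_, hy⟩
      · rw [e, mul_inv_cancel] at hyw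
        exact ne_one_of_isConj hw1 hyw.symm rfl
      · rw [e, huu] at hyw
        exact huw ((isConj_inv h hu hu1).trans hyw)
    · rintro ⟨hyi, hyu, hy⟩
      refine ⟨hy, ?_⟩
      obtain ⟨hyP, hyc⟩ := mem_classIn.1 hy
      have hy1 := ne_one_of_isConj hu1 hyc
      have hmem : u * y ∈ T := Finset.mem_filter.2 ⟨Finset.mem_univ _, mul_mem hu hyP,
        fun e => hyi (eq_inv_of_mul_eq_one_right e)⟩
      rw [← hunion, Finset.mem_union] at hmem
      rcases hmem with hm | hm
      · exfalso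
        have hsub5 : ({u, u⁻¹, y, y⁻¹, u * y} : Finset G) ⊆ classIn P u := by
          intro z hz
          simp only [Finset.mem_insert, Finset.mem_singleton] at hz
          rcases hz with rfl | rfl | rfl | rfl | rfl
          · exact mem_classIn.2 ⟨hu, IsConj.refl _⟩
          · exact mem_classIn.2 ⟨inv_mem hu, isConj_inv h hu hu1⟩
          · exact hy
          · exact mem_classIn.2 ⟨inv_mem hyP, hyc.trans (isConj_inv h hyP hy1)⟩
          · exact hm
        have h5 : ({u, u⁻¹, y, y⁻¹, u * y} : Finset G).card = 5 := by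
          rw [Finset.card_insert_of_notMem, Finset.card_insert_of_notMem,
            Finset.card_insert_of_notMem, Finset.card_pair]
          · intro e
            exact hyu ((eq_inv_of_mul_eq_one_left (b := y * y) (by
              calc u * (y * y) = u * y * y := (mul_assoc _ _ _).symm
                _ = 1 := by rw [← e, inv_mul_cancel])).trans (by
              rw [eq_comm, eq_inv_iff_mul_eq_one, ← pow_three, h.exp y hyP])).symm
          · simp only [Finset.mem_insert, Finset.mem_singleton, not_or]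
            exact ⟨hne hyP hy1, fun e => hu1 (mul_right_cancel ((one_mul y).trans e)).symm⟩
          · simp only [Finset.mem_insert, Finset.mem_singleton, not_or]
            exact ⟨fun e => hyi e.symm, fun e => hyu (inv_injective e).symm,
              fun e => hyu (mul_left_cancel (e.symm.trans huu.symm))⟩
          · simp only [Finset.mem_insert, Finset.mem_singleton, not_or]
            refine ⟨hne hu hu1, fun e => hyu e.symm, fun e => hyi ?_,
              fun e => hy1 (mul_left_cancel ((mul_one u).trans e)).symm⟩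
            rw [e, inv_inv]
        have := Finset.card_le_card hsub5
        omega
      · exact ((mem_classIn.1 hm).2).symm
  have hcardfil : ((classIn P u).filter fun y => IsConj (u * y) w).card = 2 := by
    rw [hfil, Finset.card_erase_of_mem, Finset.card_erase_of_mem, h4]
    · exact mem_classIn.2 ⟨hu, IsConj.refl _⟩
    · exact Finset.mem_erase.2 ⟨(hne hu hu1).symm, mem_classIn.2 ⟨inv_mem hu, isConj_inv h hu hu1⟩⟩
  have F := triple_formula h hu hu1 hu hu1 hw hw1 (fun e => huw e.2)
  rw [hcardfil] at F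
  obtain ⟨i, j, hij, hio, hjo, hvi, hvj, hdeg, hout, hbd⟩ := pair_chars h hu hu1 hw hw1 huw
  set vu := val h hu hu1 with hvu
  set vw := val h hw hw1 with hvw
  set o := Chars.trivialIrr G with ho
  let d : IrrCharacter G → ℕ := fun χ => charDegree (χ : G → ℂ)
  -- congruence modulo nine
  have h9 : ∀ χ, (9 : ℤ) ∣ (d χ : ℤ) + 4 * vu χ + 4 * vw χ := by
    intro χ
    obtain ⟨m, hm⟩ := CharCount.exists_nat_sum_subgroup χ (P : Subgroup G)
    rw [← Finset.sum_subtype (insert (1 : G) T) (fun y => by rw [hT1]; simp) (fun y => (χ : G → ℂ) y),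
      Finset.sum_insert (by simp [T]), ← hunion, Finset.sum_union hdisj,
      Finset.sum_congr rfl (fun y hy => (apply_conj χ (mem_classIn.1 hy).2).symm),
      Finset.sum_congr (s₁ := classIn P w) rfl (fun y hy => (apply_conj χ (mem_classIn.1 hy).2).symm),
      Finset.sum_const, Finset.sum_const, h4, h4w, h.card, val_spec h hu hu1, val_spec h hw hw1,
      (deg_spec χ).2] at hm
    refine ⟨m, ?_⟩
    have hm' : ((d χ : ℤ) : ℂ) + 4 * (vu χ : ℂ) + 4 * (vw χ : ℂ) = ((9 : ℤ) * (m : ℤ) : ℤ) := by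
      rw [nsmul_eq_mul, nsmul_eq_mul] at hm
      simp only [d, hvu, hvw]
      push_cast at hm ⊢
      linear_combination hm
    exact_mod_cast hm'
  have hnu := val_mul_sum h hu hu1 hu hu1
  have huw0 := val_mul_sum h hu hu1 hw hw1
  rw [if_pos (IsConj.refl u), ← hvu] at hnu
  rw [if_neg huw, ← hvu, ← hvw] at huw0
  set R := ((Finset.univ.erase o).erase i).erase j with hR
  have hsplit : ∀ {M : Type} [AddCommMonoid M] (f : IrrCharacter G → M),
      ∑ χ, f χ = f o + (f i + (f j + ∑ χ ∈ R, f χ)) := fun f => by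
    rw [← Finset.add_sum_erase _ _ (Finset.mem_univ o),
      ← Finset.add_sum_erase _ _ (Finset.mem_erase.2 ⟨hio, Finset.mem_univ i⟩),
      ← Finset.add_sum_erase _ _ (Finset.mem_erase.2
        ⟨hij.symm, Finset.mem_erase.2 ⟨hjo, Finset.mem_univ j⟩⟩)]
  have hRm : ∀ {k}, k ∈ R → k ≠ j ∧ k ≠ i ∧ k ≠ o := fun hk => by
    simp only [hR, Finset.mem_erase] at hk; exact ⟨hk.1, hk.2.1, hk.2.2.1⟩
  have hvo : vu o = 1 := val_triv h hu hu1
  have hwo : vw o = 1 := val_triv h hw hw1
  rw [hsplit] at hnu huw0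
  rw [Finset.sum_congr (s₁ := R) rfl (fun k hk => by rw [hout k (hRm hk).2.1 (hRm hk).1])] at huw0
  rw [hvo] at hnu
  rw [hvo, hwo, hvi, hvj] at huw0
  have hdiff : vu i - vu j = 3 := by linarith only [hnu, huw0]
  obtain ⟨hbi, hbi'⟩ := hbd i hio
  rw [hvi] at hbi'
  rw [abs_le] at hbi hbi'
  have hxj : vu j = vu i - 3 := by omega
  rw [hxj] at hnu
  have hR3 : ∑ k ∈ R, vu k * vu k = 3 := by
    rcases (show vu i = 1 ∨ vu i = 2 by omega) with e | e <;> rw [e] at hnu <;> linarith only [hnu]
  have hck : ∀ k ∈ R, vu k = 0 ∨ vu k = 1 ∨ vu k = -1 := by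
    intro k hk
    have hle : vu k * vu k ≤ 3 := by
      rw [← hR3]; exact Finset.single_le_sum (fun x _ => mul_self_nonneg (vu x)) hk
    have h1 : vu k ≤ 1 := by nlinarith
    have h2 : -1 ≤ vu k := by nlinarith
    omega
  have hterm : ∀ k ∈ R, -(((vu k : ℤ) : ℚ) * vu k) / 8 ≤ ((vu k * vu k * vw k : ℤ) : ℚ) / (d k : ℚ) := by
    intro k hk
    rw [hout k (hRm hk).2.1 (hRm hk).1]
    rcases hck k hk with e | e | e <;> rw [e]
    · simp
    · norm_num
      exact le_trans (by norm_num) (inv_nonneg.2 (Nat.cast_nonneg (d k)))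
    · have hd8 : 8 ≤ d k := by
        have h1 := h9 k
        have h0 := (deg_spec k).1
        rw [hout k (hRm hk).2.1 (hRm hk).1, e] at h1
        change 0 < d k at h0
        omega
      have hq : (8 : ℚ) ≤ (d k : ℚ) := by exact_mod_cast hd8
      norm_num
      rw [neg_div]
      simpa using inv_anti₀ (by norm_num : (0 : ℚ) < 8) hq
  have hpairbound : -(2 : ℚ) / 5 ≤
      ((vu i * vu i * vw i : ℤ) : ℚ) / (d i : ℚ) + ((vu j * vu j * vw j : ℤ) : ℚ) / (d j : ℚ) := by
    have hdj : d j = d i := hdeg.symm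
    rw [hdj, hvi, hvj, hxj, ← add_div]
    have hpos : (0 : ℚ) < (d i : ℚ) := by exact_mod_cast (deg_spec i).1
    rcases (show vu i = 1 ∨ vu i = 2 by omega) with e | e <;> rw [e]
    · rw [le_div_iff₀ hpos]; norm_num; nlinarith
    · have hd5 : 5 ≤ d i := by
        have h1 := h9 i
        have h0 := (deg_spec i).1
        rw [hvi, e] at h1
        change 0 < d i at h0
        omega
      have hq : (5 : ℚ) ≤ (d i : ℚ) := by exact_mod_cast hd5
      rw [le_div_iff₀ hpos]; norm_num; nlinarith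
  set L : ℚ := ∑ χ : IrrCharacter G, ((vu χ * vu χ * vw χ : ℤ) : ℚ) / (d χ : ℚ) with hLdef
  have hGL : (Nat.card G : ℚ) * L = 162 := by
    refine Rat.cast_injective (α := ℂ) ?_
    rw [show ((162 : ℚ) : ℂ) = 81 * ((2 : ℕ) : ℂ) by norm_num, ← F]
    rw [hLdef]
    push_cast
    refine congrArg _ (Finset.sum_congr rfl fun χ _ => ?_)
    rw [val_spec h hu hu1, val_spec h hw hw1, (deg_spec χ).2]
  have hd_o : d o = 1 := by simp [d, ho, Chars.trivialIrr, charDegree]
  have hL : (9 : ℚ) / 40 ≤ L := by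
    rw [hLdef, hsplit, hvo, hwo, hd_o]
    have h1 := Finset.sum_le_sum hterm
    rw [← Finset.sum_div, Finset.sum_neg_distrib] at h1
    have h2 : ∑ k ∈ R, ((vu k : ℤ) : ℚ) * vu k = 3 := by exact_mod_cast hR3
    rw [h2] at h1
    norm_num at h1 hpairbound ⊢
    linarith
  have : (Nat.card G : ℚ) ≤ 720 := by nlinarith [Nat.cast_nonneg (α := ℚ) (Nat.card G)]
  exact_mod_cast this

/-- The group has order 360 or 684. -/
theorem card_group (h : Data P) (hclasses : ∃ a b : G, orderOf a = 3 ∧ orderOf b = 3 ∧ ¬ IsConj a b) :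
    Nat.card G = 360 ∨ Nat.card G = 684 := by
  classical
  haveI : Fact (Nat.Prime 3) := ⟨Nat.prime_three⟩
  obtain ⟨a, b, ha, hb, hab⟩ := hclasses
  have hin : ∀ {x : G}, orderOf x = 3 → ∃ y ∈ (P : Subgroup G), y ≠ 1 ∧ IsConj x y := fun {x} hx => by
    have hp : IsPGroup 3 (zpowers x) := IsPGroup.of_card (n := 1) (by rw [Nat.card_zpowers, hx]; rfl)
    obtain ⟨Q, hQ⟩ := hp.exists_le_sylow
    obtain ⟨g, hg⟩ := MulAction.exists_smul_eq G P Q
    have hxQ : x ∈ ((g • P : Sylow 3 G) : Subgroup G) := hg ▸ hQ (mem_zpowers x)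
    rw [Sylow.coe_subgroup_smul, Subgroup.mem_pointwise_smul_iff_inv_smul_mem] at hxQ
    refine ⟨g⁻¹ * x * g, by simpa using hxQ, fun e => ?_, isConj_iff.2 ⟨g⁻¹, by group⟩⟩
    have : x = 1 := by calc x = g * (g⁻¹ * x * g) * g⁻¹ := by group
                         _ = 1 := by rw [e]; group
    rw [this, orderOf_one] at hx; omega
  obtain ⟨a', ha', ha1, haa'⟩ := hin ha
  obtain ⟨b', hb', hb1, hbb'⟩ := hin hb
  have hab' : ¬ IsConj a' b' := fun e => hab (haa'.trans (e.trans hbb'.symm))
  have hN := card_classIn h ha' ha1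
  set n := (normalizer ((P : Subgroup G) : Set G)).index with hn
  have hcard : Nat.card G = 9 * (classIn P a').card * n := by
    rw [← hN, hn, Subgroup.card_mul_index]
  have h9 := h.nine_dvd
  have hsyl : Nat.card (Sylow 3 G) = n := P.card_eq_index_normalizer
  rw [hsyl] at h9
  have hn1 : n ≠ 1 := fun e => by
    rw [hn, index_eq_one, normalizer_eq_top_iff] at e
    rcases e.eq_bot_or_eq_top with he | he
    · exact ha1 (by rw [he] at ha'; exact ha')
    · have h9' := h.card
      rw [he, card_top] at h9'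
      refine SmallGroups.not_isPGroup (p := 3) (SmallGroups.not_isMulCommutative_of_not_prime ?_)
        (IsPGroup.of_card (n := 2) h9')
      rw [h9']; norm_num
  have hn0 : n ≠ 0 := index_ne_zero_of_finite
  have hn10 : 10 ≤ n := by omega
  rcases classSize_cases h ha' ha1 with e | e | e
  · exact (two_false h ha' ha1 e hn10).elim
  · have := four_bound h ha' ha1 e
    rw [hcard, e] at this ⊢
    have : n ≤ 20 := by omega
    omega
  · exfalso
    have hsub : classIn P a' ⊆ Finset.univ.filter (fun y => y ∈ (P : Subgroup G) ∧ y ≠ 1) :=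
      fun y hy => Finset.mem_filter.2 ⟨Finset.mem_univ _, (mem_classIn.1 hy).1,
        ne_one_of_isConj ha1 (mem_classIn.1 hy).2⟩
    have hlt : (Finset.univ.filter (fun y => y ∈ (P : Subgroup G) ∧ y ≠ 1)).card <
        (Finset.univ.filter (fun y => y ∈ (P : Subgroup G))).card :=
      Finset.card_lt_card ((Finset.ssubset_iff_of_subset (fun y hy => by
        simp only [Finset.mem_filter] at hy ⊢; exact ⟨hy.1, hy.2.1⟩)).2 ⟨1, by simp [one_mem], by simp⟩)
    rw [← Fintype.card_subtype (fun y => y ∈ (P : Subgroup G)), ← Nat.card_eq_fintype_card, h.card] at hlt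
    have heq := Finset.eq_of_subset_of_card_le hsub (by omega)
    have : b' ∈ classIn P a' := by rw [heq]; simp [hb', hb1]
    exact hab' (mem_classIn.1 this).2

end Cfsg.Agent.Lib.ThreeSelfCentral
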